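import Cfsg.Agent.H0.MON.D
set_option maxRecDepth 100000
set_option Elab.async false
namespace H0.MON
open H0 BN 
theorem c0 : relsW R 0 3 ((B.drop 0).take 24) = true := by decide +kernel
theorem c1 : relsW R 3 3 ((B.drop 0).take 24) = true := by decide +kernel
theorem c2 : relsW R 6 3 ((B.drop 0).take 24) = true := by decide +kernel
theorem c3 : relsW R 9 3 ((B.drop 0).take 24) = true := by decide +kernel
theorem c4 : relsW R 12 3 ((B.drop 0).take 24) = true := by decide +kernel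
theorem c5 : relsW R 15 2 ((B.drop 0).take 24) = true := by decide +kernel
theorem c6 : relsW R 0 3 ((B.drop 24).take 6) = true := by decide +kernel
theorem c7 : relsW R 3 3 ((B.drop 24).take 6) = true := by decide +kernel
theorem c8 : relsW R 6 3 ((B.drop 24).take 6) = true := by decide +kernel
theorem c9 : relsW R 9 3 ((B.drop 24).take 6) = true := by decide +kernel
theorem c10 : relsW R 12 3 ((B.drop 24).take 6) = true := by decide +kernel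
theorem c11 : relsW R 15 2 ((B.drop 24).take 6) = true := by decide +kernel
theorem c12 : eqW R 0 3 [15] [8, 8, 8, 9, 8, 9, 8, 9, 8] = true := by decide +kernel
theorem c13 : eqW R 3 3 [15] [8, 8, 8, 9, 8, 9, 8, 9, 8] = true := by decide +kernel
theorem c14 : eqW R 6 3 [15] [8, 8, 8, 9, 8, 9, 8, 9, 8] = true := by decide +kernel
theorem c15 : eqW R 9 3 [15] [8, 8, 8, 9, 8, 9, 8, 9, 8] = true := by decide +kernel
theorem c16 : eqW R 12 3 [15] [8, 8, 8, 9, 8, 9, 8, 9, 8] = true := by decide +kernel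
theorem c17 : eqW R 15 2 [15] [8, 8, 8, 9, 8, 9, 8, 9, 8] = true := by decide +kernel
theorem c18 : eqW R 0 3 [14] [10, 10, 10, 11, 11, 10, 11, 10, 11, 11, 10, 10, 10, 11, 10, 11, 10, 11, 10, 10, 10, 10, 10, 10] = true := by decide +kernel
theorem c19 : eqW R 3 3 [14] [10, 10, 10, 11, 11, 10, 11, 10, 11, 11, 10, 10, 10, 11, 10, 11, 10, 11, 10, 10, 10, 10, 10, 10] = true := by decide +kernel
theorem c20 : eqW R 6 3 [14] [10, 10, 10, 11, 11, 10, 11, 10, 11, 11, 10, 10, 10, 11, 10, 11, 10, 11, 10, 10, 10, 10, 10, 10] = true := by decide +kernel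
theorem c21 : eqW R 9 3 [14] [10, 10, 10, 11, 11, 10, 11, 10, 11, 11, 10, 10, 10, 11, 10, 11, 10, 11, 10, 10, 10, 10, 10, 10] = true := by decide +kernel
theorem c22 : eqW R 12 3 [14] [10, 10, 10, 11, 11, 10, 11, 10, 11, 11, 10, 10, 10, 11, 10, 11, 10, 11, 10, 10, 10, 10, 10, 10] = true := by decide +kernel
theorem c23 : eqW R 15 2 [14] [10, 10, 10, 11, 11, 10, 11, 10, 11, 11, 10, 10, 10, 11, 10, 11, 10, 11, 10, 10, 10, 10, 10, 10] = true := by decide +kernel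
theorem c24 : eqW R 0 3 [13] [10, 10, 10, 10, 10, 10, 11, 11, 11, 10, 11, 11, 11, 10, 11, 11, 10, 11, 10, 11, 11, 11] = true := by decide +kernel
theorem c25 : eqW R 3 3 [13] [10, 10, 10, 10, 10, 10, 11, 11, 11, 10, 11, 11, 11, 10, 11, 11, 10, 11, 10, 11, 11, 11] = true := by decide +kernel
theorem c26 : eqW R 6 3 [13] [10, 10, 10, 10, 10, 10, 11, 11, 11, 10, 11, 11, 11, 10, 11, 11, 10, 11, 10, 11, 11, 11] = true := by decide +kernel
theorem c27 : eqW R 9 3 [13] [10, 10, 10, 10, 10, 10, 11, 11, 11, 10, 11, 11, 11, 10, 11, 11, 10, 11, 10, 11, 11, 11] = true := by decide +kernel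
theorem c28 : eqW R 12 3 [13] [10, 10, 10, 10, 10, 10, 11, 11, 11, 10, 11, 11, 11, 10, 11, 11, 10, 11, 10, 11, 11, 11] = true := by decide +kernel
theorem c29 : eqW R 15 2 [13] [10, 10, 10, 10, 10, 10, 11, 11, 11, 10, 11, 11, 11, 10, 11, 11, 10, 11, 10, 11, 11, 11] = true := by decide +kernel
theorem c30 : eqW R 0 3 [12] [10, 11, 10, 10, 10, 11, 11, 11, 10, 10, 11, 10, 10, 11, 10, 10, 11, 10, 11, 10, 11] = true := by decide +kernel
theorem c31 : eqW R 3 3 [12] [10, 11, 10, 10, 10, 11, 11, 11, 10, 10, 11, 10, 10, 11, 10, 10, 11, 10, 11, 10, 11] = true := by decide +kernel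
theorem c32 : eqW R 6 3 [12] [10, 11, 10, 10, 10, 11, 11, 11, 10, 10, 11, 10, 10, 11, 10, 10, 11, 10, 11, 10, 11] = true := by decide +kernel
theorem c33 : eqW R 9 3 [12] [10, 11, 10, 10, 10, 11, 11, 11, 10, 10, 11, 10, 10, 11, 10, 10, 11, 10, 11, 10, 11] = true := by decide +kernel
theorem c34 : eqW R 12 3 [12] [10, 11, 10, 10, 10, 11, 11, 11, 10, 10, 11, 10, 10, 11, 10, 10, 11, 10, 11, 10, 11] = true := by decide +kernel
theorem c35 : eqW R 15 2 [12] [10, 11, 10, 10, 10, 11, 11, 11, 10, 10, 11, 10, 10, 11, 10, 10, 11, 10, 11, 10, 11] = true := by decide +kernel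
theorem c36 : eqW R 0 3 [11] [8, 8, 9, 8, 8, 8, 9, 9, 8, 9, 8, 9, 9, 9, 8, 8, 8, 8, 9, 8, 8, 8] = true := by decide +kernel
theorem c37 : eqW R 3 3 [11] [8, 8, 9, 8, 8, 8, 9, 9, 8, 9, 8, 9, 9, 9, 8, 8, 8, 8, 9, 8, 8, 8] = true := by decide +kernel
theorem c38 : eqW R 6 3 [11] [8, 8, 9, 8, 8, 8, 9, 9, 8, 9, 8, 9, 9, 9, 8, 8, 8, 8, 9, 8, 8, 8] = true := by decide +kernel
theorem c39 : eqW R 9 3 [11] [8, 8, 9, 8, 8, 8, 9, 9, 8, 9, 8, 9, 9, 9, 8, 8, 8, 8, 9, 8, 8, 8] = true := by decide +kernel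
theorem c40 : eqW R 12 3 [11] [8, 8, 9, 8, 8, 8, 9, 9, 8, 9, 8, 9, 9, 9, 8, 8, 8, 8, 9, 8, 8, 8] = true := by decide +kernel
theorem c41 : eqW R 15 2 [11] [8, 8, 9, 8, 8, 8, 9, 9, 8, 9, 8, 9, 9, 9, 8, 8, 8, 8, 9, 8, 8, 8] = true := by decide +kernel
theorem c42 : eqW R 0 3 [10] [9, 9, 9, 8, 8, 8, 8, 9, 9, 9, 9, 8, 8, 9, 9, 9, 8, 9, 9, 8] = true := by decide +kernel
theorem c43 : eqW R 3 3 [10] [9, 9, 9, 8, 8, 8, 8, 9, 9, 9, 9, 8, 8, 9, 9, 9, 8, 9, 9, 8] = true := by decide +kernel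
theorem c44 : eqW R 6 3 [10] [9, 9, 9, 8, 8, 8, 8, 9, 9, 9, 9, 8, 8, 9, 9, 9, 8, 9, 9, 8] = true := by decide +kernel
theorem c45 : eqW R 9 3 [10] [9, 9, 9, 8, 8, 8, 8, 9, 9, 9, 9, 8, 8, 9, 9, 9, 8, 9, 9, 8] = true := by decide +kernel
theorem c46 : eqW R 12 3 [10] [9, 9, 9, 8, 8, 8, 8, 9, 9, 9, 9, 8, 8, 9, 9, 9, 8, 9, 9, 8] = true := by decide +kernel
theorem c47 : eqW R 15 2 [10] [9, 9, 9, 8, 8, 8, 8, 9, 9, 9, 9, 8, 8, 9, 9, 9, 8, 9, 9, 8] = true := by decide +kernel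
theorem c48 : eqW R 0 3 [9] [1, 5, 7, 1, 4, 3, 7, 5, 4, 2, 3, 4, 5, 1] = true := by decide +kernel
theorem c49 : eqW R 3 3 [9] [1, 5, 7, 1, 4, 3, 7, 5, 4, 2, 3, 4, 5, 1] = true := by decide +kernel
theorem c50 : eqW R 6 3 [9] [1, 5, 7, 1, 4, 3, 7, 5, 4, 2, 3, 4, 5, 1] = true := by decide +kernel
theorem c51 : eqW R 9 3 [9] [1, 5, 7, 1, 4, 3, 7, 5, 4, 2, 3, 4, 5, 1] = true := by decide +kernel
theorem c52 : eqW R 12 3 [9] [1, 5, 7, 1, 4, 3, 7, 5, 4, 2, 3, 4, 5, 1] = true := by decide +kernel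
theorem c53 : eqW R 15 2 [9] [1, 5, 7, 1, 4, 3, 7, 5, 4, 2, 3, 4, 5, 1] = true := by decide +kernel
theorem c54 : eqW R 0 3 [8] [4, 7, 5, 1, 3, 5, 0, 0, 0, 4, 5, 7, 6, 5, 6, 1] = true := by decide +kernel
theorem c55 : eqW R 3 3 [8] [4, 7, 5, 1, 3, 5, 0, 0, 0, 4, 5, 7, 6, 5, 6, 1] = true := by decide +kernel
theorem c56 : eqW R 6 3 [8] [4, 7, 5, 1, 3, 5, 0, 0, 0, 4, 5, 7, 6, 5, 6, 1] = true := by decide +kernel
theorem c57 : eqW R 9 3 [8] [4, 7, 5, 1, 3, 5, 0, 0, 0, 4, 5, 7, 6, 5, 6, 1] = true := by decide +kernel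
theorem c58 : eqW R 12 3 [8] [4, 7, 5, 1, 3, 5, 0, 0, 0, 4, 5, 7, 6, 5, 6, 1] = true := by decide +kernel
theorem c59 : eqW R 15 2 [8] [4, 7, 5, 1, 3, 5, 0, 0, 0, 4, 5, 7, 6, 5, 6, 1] = true := by decide +kernel
theorem c60 : Model.fixW R [] [[8], [9]] = true := by decide +kernel
theorem c61 : Model.growW R [[8], [9]] [0, 1, 0, 1, 0, 1, 0, 1, 0, 1, 0, 1, 0, 1, 0, 1, 0, 1, 0, 1, 0, 1, 0, 1, 0, 1, 0, 1, 0] (Nat.pow 2 0) (ival 0 122760) = true := by decide +kernel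
theorem c62 : Model.fixW R [0] [[10], [11]] = true := by decide +kernel
theorem c63 : Model.growW R [[10], [11]] [0, 1, 0, 1, 0, 1, 0, 1, 0, 1, 0, 1, 0, 1, 0, 1, 0, 1, 0, 1, 0, 1, 0, 1, 0, 1, 0] (Nat.pow 2 1) (ival 1 58653) = true := by decide +kernel
theorem c64 : Model.fixW R [1, 0] [[12], [13], [14]] = true := by decide +kernel
theorem c65 : Model.growW R [[12], [13], [14]] [0, 1, 2, 0, 1, 2, 0, 2, 0, 2, 0] (Nat.pow 2 222) (ival 222 64) = true := by decide +kernel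
theorem c66 : Model.growW R [[8], [9]] [0, 1, 0, 1, 0, 1, 0, 1, 0, 1, 0, 1, 0, 1, 0, 1, 0, 1, 0, 1, 0, 1, 0, 1, 0, 1, 0, 1, 0] (Nat.pow 2 0) (ival 0 122760) = true := by decide +kernel
theorem c67 : Model.invW R [[0], [1], [2], [3], [4], [5], [6], [7]] 0 122760 = true := by decide +kernel
theorem c68 : Model.fixW R [0] [[10], [11]] = true := by decide +kernel
theorem c69 : Model.growW R [[10], [11]] [0, 1, 0, 1, 0, 1, 0, 1, 0, 1, 0, 1, 0, 1, 0, 1, 0, 1, 0, 1, 0, 1, 0, 1, 0, 1, 0] (Nat.pow 2 386) (ival 1 58653) = true := by decide +kernel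
theorem c70 : mapsW R [9] (Nat.pow 2 0) (Nat.pow 2 386) = true := by decide +kernel
theorem c71 : Model.growW R [[9], [10], [11]] [0, 0, 1, 2, 0, 1, 2, 0, 1, 2, 0, 1, 2, 0, 1, 2, 0, 1, 2, 0, 1, 2, 0, 2] (Nat.pow 2 0) (ival 0 122760) = true := by decide +kernel
theorem c72 : Model.growW R [[10], [11]] [0, 1, 0, 1, 0, 1, 0, 1, 0, 1, 0, 1, 0, 1, 0, 1, 0, 1, 0, 1, 0, 1, 0, 1, 0, 1, 0] (Nat.pow 2 61652) (ival 58654 52136) = true := by decide +kernel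
theorem c73 : mapsW R [8, 8] (Nat.pow 2 0) (Nat.pow 2 61652) = true := by decide +kernel
theorem c74 : Model.growW R [[8, 8], [10], [11]] [0, 0, 1, 2, 0, 1, 2, 0, 1, 2, 0, 1, 2, 0, 1, 2, 0, 1, 2, 0, 1, 2, 0, 1] (Nat.pow 2 0) (ival 0 122760) = true := by decide +kernel
theorem c75 : Model.growW R [[10], [11]] [0, 1, 0, 1, 0, 1, 0, 1, 0, 1, 0, 1, 0, 1, 0, 1, 0, 1, 0, 1, 0, 0] (Nat.pow 2 115813) (ival 110790 5586) = true := by decide +kernel
theorem c76 : mapsW R [8, 8, 8, 8] (Nat.pow 2 0) (Nat.pow 2 115813) = true := by decide +kernel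
theorem c77 : Model.growW R [[8, 8, 8, 8], [10], [11]] [0, 0, 1, 2, 0, 1, 2, 0, 1, 2, 0, 1, 2, 0, 1, 2, 0, 1, 2, 0, 1, 2, 0, 1] (Nat.pow 2 0) (ival 0 122760) = true := by decide +kernel
theorem c78 : Model.growW R [[10], [11]] [0, 1, 0, 1, 0, 1, 0, 1, 0, 1, 0, 1, 0, 1, 0, 1, 0, 1, 0, 1, 0, 0] (Nat.pow 2 116925) (ival 116376 6384) = true := by decide +kernel
theorem c79 : mapsW R [9, 9] (Nat.pow 2 0) (Nat.pow 2 116925) = true := by decide +kernel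
theorem c80 : Model.growW R [[9, 9], [10], [11]] [0, 0, 1, 2, 0, 1, 2, 0, 1, 2, 0, 1, 2, 0, 1, 2, 0, 1, 2, 0, 1, 2, 0, 0] (Nat.pow 2 0) (ival 0 122760) = true := by decide +kernel
theorem c81 : Model.fixW R [222, 1, 0] ((ngR.drop 0).take 4) = true := by decide +kernel
theorem c82 : Model.fixW R [222, 1, 0] ((ngR.drop 4).take 12) = true := by decide +kernel
theorem c83 : Model.fixW R [222, 1, 0] ((xR.drop 0).take 1) = true := by decide +kernel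
theorem c84 : Model.fixW R [0] [[2], [3], [4], [5], [6], [7]] = true := by decide +kernel
end H0.MON
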