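import Cfsg.Agent.H0.MON.K0
import Cfsg.Agent.H0.TCON3.Main
import Cfsg.Agent.H0.TCON2.Main
import Cfsg.Agent.H0.TCON1.Main
import Cfsg.Agent.H0.TCON0.Main
set_option maxRecDepth 100000
set_option Elab.async false
namespace H0.MON
open H0 BN 
theorem rels : ∀ r ∈ B, ev R.p r = 1 := all_take_done (all_take_step (all_take_step (all_take_zero _ B) (bits_done R (bits_step R (bits_step R (bits_step R (bits_step R (bits_step R (bits_step R (bits_zero R ((B.drop 0).take 24)) c0) c1) c2) c3) c4) c5))) (bits_done R (bits_step R (bits_step R (bits_step R (bits_step R (bits_step R (bits_step R (bits_zero R ((B.drop 24).take 6)) c6) c7) c8) c9) c10) c11))) (by decide +kernel)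
theorem defs_ok : DefsOK R.p defs 8 := (defsOK_cons (eq_of_bits R (eqb_step R (eqb_step R (eqb_step R (eqb_step R (eqb_step R (eqb_step R (eqb_zero R [8] [4, 7, 5, 1, 3, 5, 0, 0, 0, 4, 5, 7, 6, 5, 6, 1]) c54) c55) c56) c57) c58) c59)) (by decide) (defsOK_cons (eq_of_bits R (eqb_step R (eqb_step R (eqb_step R (eqb_step R (eqb_step R (eqb_step R (eqb_zero R [9] [1, 5, 7, 1, 4, 3, 7, 5, 4, 2, 3, 4, 5, 1]) c48) c49) c50) c51) c52) c53)) (by decide) (defsOK_cons (eq_of_bits R (eqb_step R (eqb_step R (eqb_step R (eqb_step R (eqb_step R (eqb_step R (eqb_zero R [10] [9, 9, 9, 8, 8, 8, 8, 9, 9, 9, 9, 8, 8, 9, 9, 9, 8, 9, 9, 8]) c42) c43) c44) c45) c46) c47)) (by decide) (defsOK_cons (eq_of_bits R (eqb_step R (eqb_step R (eqb_step R (eqb_step R (eqb_step R (eqb_step R (eqb_zero R [11] [8, 8, 9, 8, 8, 8, 9, 9, 8, 9, 8, 9, 9, 9, 8, 8, 8, 8, 9, 8, 8, 8]) c36) c37) c38) c39) c40) c41)) (by decide) (defsOK_cons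 (eq_of_bits R (eqb_step R (eqb_step R (eqb_step R (eqb_step R (eqb_step R (eqb_step R (eqb_zero R [12] [10, 11, 10, 10, 10, 11, 11, 11, 10, 10, 11, 10, 10, 11, 10, 10, 11, 10, 11, 10, 11]) c30) c31) c32) c33) c34) c35)) (by decide) (defsOK_cons (eq_of_bits R (eqb_step R (eqb_step R (eqb_step R (eqb_step R (eqb_step R (eqb_step R (eqb_zero R [13] [10, 10, 10, 10, 10, 10, 11, 11, 11, 10, 11, 11, 11, 10, 11, 11, 10, 11, 10, 11, 11, 11]) c24) c25) c26) c27) c28) c29)) (by decide) (defsOK_cons (eq_of_bits R (eqb_step R (eqb_step R (eqb_step R (eqb_step R (eqb_step R (eqb_step R (eqb_zero R [14] [10, 10, 10, 11, 11, 10, 11, 10, 11, 11, 10, 10, 10, 11, 10, 11, 10, 11, 10, 10, 10, 10, 10, 10]) c18) c19) c20) c21) c22) c23)) (by decide) (defsOK_cons (eq_of_bits R (eqb_step R (eqb_step R (eqb_step R (eqb_step R (eqb_step R (eqb_step R (eqb_zero R [15] [8, 8, 8, 9, 8, 9, 8, 9, 8]) c12) c13) c14) c15) c16) c17))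 (by decide) (defsOK_nil _ _)))))))))
variable {G : Type} [Group G] (P : Pres G 8 B)
noncomputable def m : Model G := P.model defs R rels (by decide +kernel) defs_ok R_ge
include P
theorem mR : (m P).R = R := rfl
theorem g_eq {x : ℕ} (h : x < 8) : (m P).g x = P.g x := extG_out defs P.g 8 (Or.inl h)
theorem top : gen (m P).g (lets 8) = ⊤ := (gen_extG defs P.g 8 (by decide)).trans P.top
theorem grel : ∀ r ∈ B, ev (m P).g r = 1 := rels_extG defs 8 (by decide +kernel) P.rel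
theorem hi : ∀ x < 8, (m P).g x * (m P).g (inv x) = 1 := inv_of_invChk (grel P) (by decide +kernel)
theorem upper : Finite G ∧ Nat.card G ≤ 460815505920 := card_of_top (top P) ((chain_step (σ := [[0], [1], [2], [3], [4], [5], [6], [7]]) (n := 122760) H0.TCON0.main rfl rfl (rels_of_consChk (grel P) 8 inv (by decide +kernel)) (chain_step (σ := [[2], [3], [4], [5], [6], [7]]) (n := 5586) H0.TCON1.main rfl rfl (rels_of_consChk (grel P) 8 inv (by decide +kernel)) (chain_step (σ := [[2], [4], [5], [6], [7]]) (n := 21) H0.TCON2.main rfl rfl (rels_of_consChk (grel P) 8 inv (by decide +kernel)) (chain_step (σ := [[2], [4], [5], [7]]) (n := 32) H0.TCON3.main rfl rfl (rels_of_consChk (grel P) 8 inv (by decide +kernel)) (chain_start _))))).imp_right fun h => h.trans (by decide +kernel))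
theorem fin : Finite G := (upper P).1
theorem card_base : Nat.card G = 460815505920 ∧ (m P).pst [222, 1, 0] = ⊥ :=
  haveI := fin P
  (m P).card_done ((m P).card_step (lo := 222) (d := 64) (Model.via _ (mR P) (fun R => Model.fixW R [1, 0] [[12], [13], [14]]) c64) ((m P).inOrb_grow [0, 1, 2, 0, 1, 2, 0, 2, 0, 2, 0] ((m P).inOrb_self _ 222) (Model.via _ (mR P) (fun R => Model.growW R [[12], [13], [14]] [0, 1, 2, 0, 1, 2, 0, 2, 0, 2, 0] (Nat.pow 2 222) (ival 222 64)) c65)) (Model.via _ (mR P) (fun R => Nat.ble (222 + 64) R.N) (by decide +kernel)) ((m P).card_step (lo := 1) (d := 58653) (Model.via _ (mR P) (fun R => Model.fixW R [0] [[10], [11]]) c62) ((m P).inOrb_grow [0, 1, 0, 1, 0, 1, 0, 1, 0, 1, 0, 1, 0, 1, 0, 1, 0, 1, 0, 1, 0, 1, 0, 1, 0, 1, 0] ((m P).inOrb_self _ 1) (Model.via _ (mR P) (fun R => Model.growW R [[10], [11]] [0, 1, 0, 1, 0, 1, 0, 1, 0, 1, 0, 1, 0, 1, 0, 1, 0, 1, 0, 1, 0, 1, 0, 1,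 0, 1, 0] (Nat.pow 2 1) (ival 1 58653)) c63)) (Model.via _ (mR P) (fun R => Nat.ble (1 + 58653) R.N) (by decide +kernel)) ((m P).card_step (lo := 0) (d := 122760) (Model.via _ (mR P) (fun R => Model.fixW R [] [[8], [9]]) c60) ((m P).inOrb_grow [0, 1, 0, 1, 0, 1, 0, 1, 0, 1, 0, 1, 0, 1, 0, 1, 0, 1, 0, 1, 0, 1, 0, 1, 0, 1, 0, 1, 0] ((m P).inOrb_self _ 0) (Model.via _ (mR P) (fun R => Model.growW R [[8], [9]] [0, 1, 0, 1, 0, 1, 0, 1, 0, 1, 0, 1, 0, 1, 0, 1, 0, 1, 0, 1, 0, 1, 0, 1, 0, 1, 0, 1, 0] (Nat.pow 2 0) (ival 0 122760)) c61)) (Model.via _ (mR P) (fun R => Nat.ble (0 + 122760) R.N) (by decide +kernel)) ((m P).card_start)))) (upper P).2 (by decide +kernel)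
theorem card : Nat.card G = 460815505920 := (card_base P).1
theorem base : (m P).pst [222, 1, 0] = ⊥ := (card_base P).2
theorem inj : Function.Injective (m P).φ := (m P).inj_of_base (base P)
theorem trans : (m P).orb ⊤ 0 = Set.Ico 0 (0 + 122760) :=
  (m P).orb_eq_ico' ((m P).inOrb_mono le_top ((m P).inOrb_grow [0, 1, 0, 1, 0, 1, 0, 1, 0, 1, 0, 1, 0, 1, 0, 1, 0, 1, 0, 1, 0, 1, 0, 1, 0, 1, 0, 1, 0] ((m P).inOrb_self _ 0) (Model.via _ (mR P) (fun R => Model.growW R [[8], [9]] [0, 1, 0, 1, 0, 1, 0, 1, 0, 1, 0, 1, 0, 1, 0, 1, 0, 1, 0, 1, 0, 1, 0, 1, 0, 1, 0, 1, 0] (Nat.pow 2 0) (ival 0 122760)) c66))) (top P).ge (Model.via _ (mR P) (fun R => Model.invW R [[0], [1], [2], [3], [4], [5], [6], [7]] 0 122760) c67) (by decide)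
theorem sub1 : (m P).InOrb (gen (m P).g [[10], [11]]) 386 (ival 1 58653) := ((m P).inOrb_grow [0, 1, 0, 1, 0, 1, 0, 1, 0, 1, 0, 1, 0, 1, 0, 1, 0, 1, 0, 1, 0, 1, 0, 1, 0, 1, 0] ((m P).inOrb_self _ 386) (Model.via _ (mR P) (fun R => Model.growW R [[10], [11]] [0, 1, 0, 1, 0, 1, 0, 1, 0, 1, 0, 1, 0, 1, 0, 1, 0, 1, 0, 1, 0, 1, 0, 1, 0, 1, 0] (Nat.pow 2 386) (ival 1 58653)) c69))
theorem sub58654 : (m P).InOrb (gen (m P).g [[10], [11]]) 61652 (ival 58654 52136) := ((m P).inOrb_grow [0, 1, 0, 1, 0, 1, 0, 1, 0, 1, 0, 1, 0, 1, 0, 1, 0, 1, 0, 1, 0, 1, 0, 1, 0, 1, 0] ((m P).inOrb_self _ 61652) (Model.via _ (mR P) (fun R => Model.growW R [[10], [11]] [0, 1, 0, 1, 0, 1, 0, 1, 0, 1, 0, 1, 0, 1, 0, 1, 0, 1, 0, 1, 0, 1, 0, 1, 0, 1, 0] (Nat.pow 2 61652) (ival 58654 52136)) c72))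
theorem sub110790 : (m P).InOrb (gen (m P).g [[10], [11]]) 115813 (ival 110790 5586) := ((m P).inOrb_grow [0, 1, 0, 1, 0, 1, 0, 1, 0, 1, 0, 1, 0, 1, 0, 1, 0, 1, 0, 1, 0, 0] ((m P).inOrb_self _ 115813) (Model.via _ (mR P) (fun R => Model.growW R [[10], [11]] [0, 1, 0, 1, 0, 1, 0, 1, 0, 1, 0, 1, 0, 1, 0, 1, 0, 1, 0, 1, 0, 0] (Nat.pow 2 115813) (ival 110790 5586)) c75))
theorem sub116376 : (m P).InOrb (gen (m P).g [[10], [11]]) 116925 (ival 116376 6384) := ((m P).inOrb_grow [0, 1, 0, 1, 0, 1, 0, 1, 0, 1, 0, 1, 0, 1, 0, 1, 0, 1, 0, 1, 0, 0] ((m P).inOrb_self _ 116925) (Model.via _ (mR P) (fun R => Model.growW R [[10], [11]] [0, 1, 0, 1, 0, 1, 0, 1, 0, 1, 0, 1, 0, 1, 0, 1, 0, 1, 0, 1, 0, 0] (Nat.pow 2 116925) (ival 116376 6384)) c78))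
theorem coatom : IsCoatom ((m P).pst [0]) := (m P).coatom (trans P) (by decide) ((m P).maxUpTo_step ((m P).maxUpTo_step ((m P).maxUpTo_step ((m P).maxUpTo_step ((m P).maxUpTo_one 122760) (Model.via _ (mR P) (fun R => Model.fixW R [0] [[10], [11]]) c68) (sub1 P) (Model.via _ (mR P) (fun R => Nat.ble (1 + 58653) R.N) (by decide +kernel)) (Model.via _ (mR P) (fun R => Nat.ble (0 + 122760) R.N) (by decide +kernel)) (Model.via _ (mR P) (fun R => mapsW R [9] (Nat.pow 2 0) (Nat.pow 2 386)) c70) ((m P).inOrb_grow [0, 0, 1, 2, 0, 1, 2, 0, 1, 2, 0, 1, 2, 0, 1, 2, 0, 1, 2, 0, 1, 2, 0, 2] ((m P).inOrb_self _ 0) (Model.via _ (mR P) (fun R => Model.growW R [[9], [10], [11]] [0, 0, 1, 2, 0, 1, 2, 0, 1, 2, 0, 1, 2, 0, 1, 2, 0, 1, 2, 0, 1, 2, 0, 2] (Nat.pow 2 0) (ival 0 122760)) c71))) (Model.via _ (mR P) (fun R => Model.fixW R [0] [[10], [11]]) c68) (sub58654 P) (Model.via _ (mR P) (fun R => Nat.ble (58654 + 52136)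 R.N) (by decide +kernel)) (Model.via _ (mR P) (fun R => Nat.ble (0 + 122760) R.N) (by decide +kernel)) (Model.via _ (mR P) (fun R => mapsW R [8, 8] (Nat.pow 2 0) (Nat.pow 2 61652)) c73) ((m P).inOrb_grow [0, 0, 1, 2, 0, 1, 2, 0, 1, 2, 0, 1, 2, 0, 1, 2, 0, 1, 2, 0, 1, 2, 0, 1] ((m P).inOrb_self _ 0) (Model.via _ (mR P) (fun R => Model.growW R [[8, 8], [10], [11]] [0, 0, 1, 2, 0, 1, 2, 0, 1, 2, 0, 1, 2, 0, 1, 2, 0, 1, 2, 0, 1, 2, 0, 1] (Nat.pow 2 0) (ival 0 122760)) c74))) (Model.via _ (mR P) (fun R => Model.fixW R [0] [[10], [11]]) c68) (sub110790 P) (Model.via _ (mR P) (fun R => Nat.ble (110790 + 5586) R.N) (by decide +kernel)) (Model.via _ (mR P) (fun R => Nat.ble (0 + 122760) R.N) (by decide +kernel)) (Model.via _ (mR P) (fun R => mapsW R [8, 8, 8, 8] (Nat.pow 2 0) (Nat.pow 2 115813)) c76) ((m P).inOrb_grow [0, 0, 1, 2, 0, 1, 2, 0, 1, 2, 0, 1, 2, 0, 1, 2, 0, 1, 2, 0, 1, 2, 0, 1] ((m P).inOrb_self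 _ 0) (Model.via _ (mR P) (fun R => Model.growW R [[8, 8, 8, 8], [10], [11]] [0, 0, 1, 2, 0, 1, 2, 0, 1, 2, 0, 1, 2, 0, 1, 2, 0, 1, 2, 0, 1, 2, 0, 1] (Nat.pow 2 0) (ival 0 122760)) c77))) (Model.via _ (mR P) (fun R => Model.fixW R [0] [[10], [11]]) c68) (sub116376 P) (Model.via _ (mR P) (fun R => Nat.ble (116376 + 6384) R.N) (by decide +kernel)) (Model.via _ (mR P) (fun R => Nat.ble (0 + 122760) R.N) (by decide +kernel)) (Model.via _ (mR P) (fun R => mapsW R [9, 9] (Nat.pow 2 0) (Nat.pow 2 116925)) c79) ((m P).inOrb_grow [0, 0, 1, 2, 0, 1, 2, 0, 1, 2, 0, 1, 2, 0, 1, 2, 0, 1, 2, 0, 1, 2, 0, 0] ((m P).inOrb_self _ 0) (Model.via _ (mR P) (fun R => Model.growW R [[9, 9], [10], [11]] [0, 0, 1, 2, 0, 1, 2, 0, 1, 2, 0, 1, 2, 0, 1, 2, 0, 1, 2, 0, 1, 2, 0, 0] (Nat.pow 2 0) (ival 0 122760)) c80)))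
theorem ng : ∀ N : Subgroup G, N.Normal → ev (m P).g [15] ∈ N → N = ⊤ :=
  ng_top (hi P) ngSt [15] (by decide) (all_take_done (all_take_step (all_take_step (all_take_zero _ ngR) ((m P).ev_one_of_base (base P) (Model.via _ (mR P) (fun R => Model.fixW R [222, 1, 0] ((ngR.drop 0).take 4)) c81))) ((m P).ev_one_of_base (base P) (Model.via _ (mR P) (fun R => Model.fixW R [222, 1, 0] ((ngR.drop 4).take 12)) c82))) (by decide +kernel)) (top P) (by decide)
theorem card_stab : Nat.card ((m P).pst [0]) = 3753792 := (m P).card_stab (trans P) (by rw [card P]) (by decide)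
theorem simple : IsSimpleGroup G :=
  haveI := fin P
  simple_of_coatom _ (coatom P) (fun N hN h => (m P).normal_le_stab (trans P) (base P) (by decide) N h)
    (ev (m P).g [15]) 31 (by rw [← ev_wpow]; exact (all_take_done (all_take_step (all_take_zero _ xR) ((m P).ev_one_of_base (base P) (Model.via _ (mR P) (fun R => Model.fixW R [222, 1, 0] ((xR.drop 0).take 1)) c83))) (by decide +kernel)) _ (List.mem_singleton_self _))
    (by rw [card_stab P]; decide +kernel) (ng P)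
theorem stab : (gen (m P).g subs).index = 122760 ∧ gen (m P).g subs = (m P).pst [0] :=
  (m P).stab_index ((m P).gen_le_pst (Model.via _ (mR P) (fun R => Model.fixW R [0] [[2], [3], [4], [5], [6], [7]]) c84)) (top P ▸ chain_index (σ := lets 8) H0.TCON0.main rfl rfl (rels_of_consChk (grel P) 8 inv (by decide +kernel))) (trans P)
theorem gsubs : gen (m P).g subs = gen P.g subs := gen_extG defs P.g 8 (by decide +kernel)
end H0.MON
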